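import Cfsg.Agent.H209.EPX.Defs
import Cfsg.Prelude.Def_LieTypeChar
import Cfsg.Prelude.Def_Classification2
import Cfsg.Prelude.Def_Spor_J2

/-!
# S5745 (extremely primitive exceptional groups): the cells (driver helper542)

For a group `G` (always the concrete model of the family, `G : Type`) of characteristic `p`:

* `Spor G` : no stabiliser `H` with socle `N ≅ T`, `T` sporadic;
* `Cross p G` : no `H` with socle `N ≅ T`, `T` not sporadic and not of Lie type in characteristic `p` (as in `IsLieTypeChar`);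
* `CrossK p G` : no `H` with socle `N ≅ T^k`, `k ≥ 2`, `T` not of Lie type in characteristic `p`;
* `Own p G` : no `H` with socle `N ≅ T^k`, `T` of Lie type in characteristic `p`;
* `Aff G`, `Two G` : no `H` of affine type, no `H` with two minimal normal subgroups.

`Kill p G` = all six (`Kill.noEP : NoEP G`). `Cells` = one field per family. `main` (in `Final.lean`) : `Cells → S5745`.
-/

set_option autoImplicit false

namespace Cfsg.Agent.H542.EPX

open Cfsg.Agent.H284 Cfsg.Agent.H209.EPX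

/-- socle a sporadic group -/
def Spor (G : Type) [Group G] : Prop :=
  ∀ (H N : Subgroup G) (T : Type) [Group T] (e : N ≃* (Fin 1 → T)), EPS H N e → IsSporadicGroup T → False

/-- socle `T` simple, not sporadic, not of Lie type in characteristic `p` -/
def Cross (p : ℕ) (G : Type) [Group G] : Prop :=
  ∀ (H N : Subgroup G) (T : Type) [Group T] (e : N ≃* (Fin 1 → T)), EPS H N e → ¬ IsSporadicGroup T →
    ¬ IsLieTypeChar p T → False

/-- socle `T ^ k`, `k ≥ 2`, `T` not of Lie type in characteristic `p` -/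
def CrossK (p : ℕ) (G : Type) [Group G] : Prop :=
  ∀ (H N : Subgroup G) (T : Type) [Group T] (k : ℕ) (e : N ≃* (Fin k → T)), 2 ≤ k → EPS H N e →
    ¬ IsLieTypeChar p T → False

/-- socle `T ^ k`, `T` of Lie type in characteristic `p` -/
def Own (p : ℕ) (G : Type) [Group G] : Prop :=
  ∀ (H N : Subgroup G) (T : Type) [Group T] (k : ℕ) (e : N ≃* (Fin k → T)), EPS H N e → IsLieTypeChar p T → False

/-- an abelian normal subgroup -/
def Aff (G : Type) [Group G] : Prop := ∀ H X : Subgroup G, EPA2 H X → False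

/-- two nonabelian minimal normal subgroups -/
def Two (G : Type) [Group G] : Prop :=
  ∀ (H N N' : Subgroup G) (T : Type) [Group T] (k : ℕ) (e : N ≃* (Fin k → T)), EPT2 H N N' e → False

/-- all cases are killed -/
structure Kill (p : ℕ) (G : Type) [Group G] : Prop where
  spor : Spor G
  cross : Cross p G
  crossk : CrossK p G
  own : Own p G
  aff : Aff G
  two : Two G

/-- no extremely primitive stabiliser at all -/
def NoEP (G : Type) [Group G] : Prop := ∀ H : Subgroup G, EP H → False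

/-- The families except `G₂`, each for the concrete model. -/
structure Cells : Prop where
  e8 : ∀ (F : Type) [Field F] [Fintype F] (p : ℕ) [Fact p.Prime] [CharP F p] [IsSimpleGroup ↥(Lie.chevE8.group F)],
    Kill p ↥(Lie.chevE8.group F)
  e7 : ∀ (F : Type) [Field F] [Fintype F] (p : ℕ) [Fact p.Prime] [CharP F p] [IsSimpleGroup ↥(Lie.chevE7.group F)],
    Kill p ↥(Lie.chevE7.group F)
  e6 : ∀ (F : Type) [Field F] [Fintype F] (p : ℕ) [Fact p.Prime] [CharP F p] [IsSimpleGroup ↥(Lie.chevE6.group F)],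
    Kill p ↥(Lie.chevE6.group F)
  f4 : ∀ (F : Type) [Field F] [Fintype F] (p : ℕ) [Fact p.Prime] [CharP F p] [IsSimpleGroup ↥(Lie.chevF4.group F)],
    Kill p ↥(Lie.chevF4.group F)
  te6 : ∀ (K : Type) [Field K] [Fintype K] (p q : ℕ) [Fact p.Prime] [CharP K p] [IsSimpleGroup ↥(Lie.twistedE6 K q)],
    IsPrimePow q → Fintype.card K = q ^ 2 → Kill p ↥(Lie.twistedE6 K q)
  td4 : ∀ (K : Type) [Field K] [Fintype K] (p q : ℕ) [Fact p.Prime] [CharP K p] [IsSimpleGroup ↥(Lie.twistedD4 K q)],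
    IsPrimePow q → Fintype.card K = q ^ 3 → Kill p ↥(Lie.twistedD4 K q)
  sz : ∀ (F : Type) [Field F] [Fintype F] (m : ℕ) [IsSimpleGroup ↥(Lie.Sz F (2 ^ (m + 1)))],
    1 ≤ m → Fintype.card F = 2 ^ (2 * m + 1) → NoEP ↥(Lie.Sz F (2 ^ (m + 1)))
  ree : ∀ (K : Type) [Field K] [Fintype K] (m : ℕ) [IsSimpleGroup ↥(Lie.twistedG2 K (3 ^ m))],
    1 ≤ m → Fintype.card K = 3 ^ (2 * m + 1) → NoEP ↥(Lie.twistedG2 K (3 ^ m))
  tf4 : ∀ (K : Type) [Field K] [Fintype K] (m : ℕ) [IsSimpleGroup ↥(Lie.twistedF4 K (2 ^ m))],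
    1 ≤ m → Fintype.card K = 2 ^ (2 * m + 1) → NoEP ↥(Lie.twistedF4 K (2 ^ m))
  tits : ∀ [IsSimpleGroup Lie.TitsGroup], NoEP Lie.TitsGroup
  /-- `G₂(q)`: everything except the sporadic socles -/
  g2_cross : ∀ (F : Type) [Field F] [Fintype F] (p : ℕ) [Fact p.Prime] [CharP F p]
    [IsSimpleGroup ↥(Lie.chevG2.group F)], 3 ≤ Fintype.card F → Cross p ↥(Lie.chevG2.group F)
  g2_crossk : ∀ (F : Type) [Field F] [Fintype F] (p : ℕ) [Fact p.Prime] [CharP F p]
    [IsSimpleGroup ↥(Lie.chevG2.group F)], 3 ≤ Fintype.card F → CrossK p ↥(Lie.chevG2.group F)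
  g2_own : ∀ (F : Type) [Field F] [Fintype F] (p : ℕ) [Fact p.Prime] [CharP F p]
    [IsSimpleGroup ↥(Lie.chevG2.group F)], 3 ≤ Fintype.card F → Own p ↥(Lie.chevG2.group F)
  g2_aff : ∀ (F : Type) [Field F] [Fintype F] (p : ℕ) [Fact p.Prime] [CharP F p]
    [IsSimpleGroup ↥(Lie.chevG2.group F)], 3 ≤ Fintype.card F → Aff ↥(Lie.chevG2.group F)
  g2_two : ∀ (F : Type) [Field F] [Fintype F] (p : ℕ) [Fact p.Prime] [CharP F p]
    [IsSimpleGroup ↥(Lie.chevG2.group F)], 3 ≤ Fintype.card F → Two ↥(Lie.chevG2.group F)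
  /-- `G₂(q)`, sporadic socles: only `q = 4`, `H ≅ J₂` -/
  g2_spor : ∀ (F : Type) [Field F] [Fintype F] (p : ℕ) [Fact p.Prime] [CharP F p]
    [IsSimpleGroup ↥(Lie.chevG2.group F)], 3 ≤ Fintype.card F →
    ∀ (H N : Subgroup ↥(Lie.chevG2.group F)) (T : Type) [Group T] (e : N ≃* (Fin 1 → T)), EPS H N e →
      IsSporadicGroup T → Fintype.card F = 4 ∧ Cfsg.Spor.IsoJ2 ↥H

end Cfsg.Agent.H542.EPX
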