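import Cfsg.Agent.H894.EK.GlueA
import Cfsg.Agent.H894.EK.GlueB
import Cfsg.Agent.H894.EK.GlueC
import Cfsg.Agent.H894.EK.Big
import Cfsg.Agent.H82.EK.BdAll
import Cfsg.Agent.H354.EPX.AutD
import Cfsg.Agent.H938.EPK.RowsF4
import Cfsg.Agent.H523.EPX.RowsAll
import Cfsg.Agent.H168.CK.RowsE6
import Cfsg.Agent.H148.EK.TdEight
import Cfsg.Agent.H252.EN.TabKC

/-!
# S5745: the cells `CrossK` (helper542)
-/

set_option autoImplicit false

namespace Cfsg.Agent.H542.EPX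

open Cfsg Cfsg.Agent.H209.EPX Cfsg.Agent.H889.Enum

section

variable (hg : H59.EP.TwoGen.{0}) (hK : AllK)

include hg hK

theorem ck_f4 (F : Type) [Field F] [Fintype F] (p : ℕ) [Fact p.Prime] [CharP F p] :
    CrossK p ↥(Lie.chevF4.group F) :=
  H894.EK.crossk_f4 hK H354.EPX.autData (H82.EK.bdAll hg) p H938.EPK.RowsF4.rowsF4

theorem ck_g2 (F : Type) [Field F] [Fintype F] (p : ℕ) [Fact p.Prime] [CharP F p] (h3 : 3 ≤ Fintype.card F) :
    CrossK p ↥(Lie.chevG2.group F) :=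
  H894.EK.crossk_g2 hK H354.EPX.autData (H82.EK.bdAll hg) p h3

theorem ck_td4 (K : Type) [Field K] [Fintype K] (p q : ℕ) [Fact p.Prime] [CharP K p] (h : Fintype.card K = q ^ 3) :
    CrossK p ↥(Lie.twistedD4 K q) :=
  H894.EK.crossk_td4 hK H354.EPX.autData (H82.EK.bdAll hg) p h (H523.EPX.rowsTD4 K h) (by
    rintro rfl
    exact ⟨K, inferInstance, inferInstance, H148.EK.fth_td4_eight q⟩)

theorem ck_e6 (F : Type) [Field F] [Fintype F] (p : ℕ) [Fact p.Prime] [CharP F p] :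
    CrossK p ↥(Lie.chevE6.group F) :=
  H894.EK.crossk_e6 hK H354.EPX.autData (H82.EK.bdAll hg) p (H168.CK.rowsE6 hg F)

theorem ck_te6 (K : Type) [Field K] [Fintype K] (p q : ℕ) [Fact p.Prime] [CharP K p] (h : Fintype.card K = q ^ 2) :
    CrossK p ↥(Lie.twistedE6 K q) :=
  H894.EK.crossk_te6 hK H354.EPX.autData (H82.EK.bdAll hg) p h (H168.CK.rowsTE6 hg K h)

theorem ck_e7 (F : Type) [Field F] [Fintype F] (p : ℕ) [Fact p.Prime] [CharP F p] :
    CrossK p ↥(Lie.chevE7.group F) :=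
  H894.EK.crossk_e7_of ⟨H252.EN.chkK_e7, H252.EN.chkKA_e7, H252.EN.chkKTi_e7⟩ (H894.EK.bigK hK) hK H354.EPX.autData
    (H82.EK.bdAll hg) p (H523.EPX.rowsE7 F)

theorem ck_e8_of (C : H894.EK.TabE8) (F : Type) [Field F] [Fintype F] (p : ℕ) [Fact p.Prime] [CharP F p] :
    CrossK p ↥(Lie.chevE8.group F) :=
  H894.EK.crossk_e8_of C hK H354.EPX.autData (H82.EK.bdAll hg) p (H523.EPX.rowsE8 F)

end

end Cfsg.Agent.H542.EPX
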