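import Cfsg.Agent.H224.EPX.Tits
import Cfsg.Agent.H602.EPX.TitsRow
import Cfsg.Agent.H407.EPT.Rows
import Cfsg.Agent.H355.AFF.Cells
import Cfsg.Agent.H290.Two.Cell
import Cfsg.Agent.H545.EX.TitsL25Row

/-!
# S5745: the Tits group (helper542)
-/

set_option autoImplicit false

namespace Cfsg.Agent.H542.EPX

open Cfsg Cfsg.Agent.H209.EPX

theorem tits (hK : ∀ (X : Type) [Group X] [Finite X] [IsSimpleGroup X], IsKnownSimple' X)
    [IsSimpleGroup Lie.TitsGroup] : NoEP Lie.TitsGroup := by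
  refine H224.EPX.noEP_tits_of (fun X _ _ _ => hK X) H355.AFF.aff_tits (H290.Two.two _)
    ⟨H602.EPX.l33, H545.EX.LTwo.tits_25, ?_, ?_, ?_⟩
  · rintro F _ _ hF H N T _ e h ⟨i⟩
    exact H407.EPT.no_u34 h (by rw [hF]; norm_num) i
  · rintro H N T _ e h ⟨i⟩
    refine H407.EPT.no_sixty h ?_
    rw [Nat.card_congr i.toEquiv, nat_card_alternatingGroup, Nat.card_eq_fintype_card, Fintype.card_fin]
    rfl
  · rintro H N T _ e h -
    exact H407.EPT.no_k h le_rfl

end Cfsg.Agent.H542.EPX
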