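import Cfsg.Agent.H542.EPX.Final
import Cfsg.Agent.H542.EPX.ROne
import Cfsg.Agent.H542.EPX.TitsFin
import Cfsg.Agent.H542.EPX.OwnQTwo
import Cfsg.Agent.H542.EPX.CrossKFin
import Cfsg.Agent.H290.Two.Cell
import Cfsg.Agent.H59.EP.UBFin
import Cfsg.Agent.H247.EPR.KillRee
import Cfsg.Agent.H470.EPO.OwnCells
import Cfsg.Agent.H470.EPO.SmallFin
import Cfsg.Agent.H355.AFF.Cells
import Cfsg.Agent.H805.EPX.Main
import Cfsg.Agent.H371.EPF.Fin
import Cfsg.Agent.H889.Enum.CellE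
import Cfsg.Agent.H296.EPX.CellSixFin
import Cfsg.Agent.H595.EPX.TD4Cross
import Cfsg.Agent.H805.EPX.F4Fin
import Cfsg.Agent.H252.EN.TabKI
import Cfsg.Agent.H957.EPX.G2CrossFin
import Cfsg.Agent.H444.G2S.Main
import Cfsg.Agent.OrdDiv.Table
import Cfsg.Agent.S0000

/-!
# S5745: the cells from the delivered pieces (helper542)
-/

set_option autoImplicit false

namespace Cfsg.Agent.H542.EPX

open Cfsg.Agent.H284 Cfsg.Agent.H209.EPX Cfsg.Agent.KFacts.RgdFilt Cfsg.Agent.KFacts.RgdBorelTits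

/-- the classification -/
theorem known (T : Type) [Group T] [Finite T] [IsSimpleGroup T] : IsKnownSimple' T := Cfsg.Agent.S0000.result

/-- the orders -/
theorem ot : OrdDiv.OrderTable.{0} := OrdDiv.table.{0}

theorem allK : H889.Enum.AllK := fun X _ _ _ => known X

/-- two-generation -/
theorem tg : H59.EP.TwoGen.{0} := H59.EP.twoGen

theorem own_of' {p : ℕ} [Fact p.Prime] {G : Type} [Group G] [Finite G] [IsSimpleGroup G] (hG : HasFilt p G)
    (h2 : p = 2 → OwnQ2 G) (h1 : H470.EPO.OwnSmall p G) : Own p G :=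
  H470.EPO.own_cell r1All hG h1 h2

open H805.EPX H355.AFF H470.EPO

/-- all cells, from the tables of `E₈(q)` -/
theorem cells_of (C : H894.EK.TabE8) : Cells where
  e8 F _ _ p _ _ _ := ⟨Main.e8 tg F, H889.Enum.cross_e8 tg allK F p, ck_e8_of tg allK C F p,
    own_of' (KFacts.RgdFiltChev.hasFilt_E8 F p) (oq_e8 tg known F p) (small_e8 tg ot F p), aff_e8 F, H290.Two.two _⟩
  e7 F _ _ p _ _ _ := ⟨Main.e7 tg F, H889.Enum.cross_e7 tg allK F p, ck_e7 tg allK F p,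
    own_of' (KFacts.RgdFiltChev.hasFilt_E7 F p) (oq_e7 tg known F p) (small_e7 tg ot F p), aff_e7 F, H290.Two.two _⟩
  e6 F _ _ p _ _ _ := ⟨Main.e6 tg F, H296.EPX.e6_cross allK F p, ck_e6 tg allK F p,
    own_of' (KFacts.RgdFiltChev.hasFilt_E6 F p) (oq_e6 tg known F p) (small_e6 tg ot F p), aff_e6 F, H290.Two.two _⟩
  f4 F _ _ p _ _ _ := ⟨Main.f4 tg F, F4Fin.cross_f4 tg (fun X _ _ _ => known X) ot, ck_f4 tg allK F p,
    own_of' (KFacts.RgdFiltChev.hasFilt_F4 F p) (oq_f4 tg known F p) (small_f4 tg ot F p), aff_f4 F, H290.Two.two _⟩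
  te6 K _ _ p q _ _ _ hq hK := ⟨Main.te6 tg K q hq hK, H296.EPX.te6_cross allK K p q hq hK, ck_te6 tg allK K p q hK,
    own_of' (KFacts.RgdFiltTwAll.hasFilt_E6 hq hK p) (oq_te6 tg known K p q hq hK) (small_te6 tg ot K p q hq hK),
    aff_te6 K q hq hK, H290.Two.two _⟩
  td4 K _ _ p q _ _ _ hq hK := ⟨Main.td4 tg K q hq hK, H595.EPX.cross tg K p q hq hK, ck_td4 tg allK K p q hK,
    own_of' (KFacts.RgdFiltTwAll.hasFilt_D4 hq hK p) (oq_td4 tg known K p q hq hK) (small_td4 tg ot K p q hq hK),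
    aff_td4 K q hq hK, H290.Two.two _⟩
  sz F _ _ m _ hm hF := H247.EPR.noEP_sz F m hm hF
  ree K _ _ m _ hm hK := H247.EPR.noEP_ree K m hm hK
  tf4 K _ _ m _ hm hK := H371.EPF.noEP_tf4 K m hm hK
  tits := tits known
  g2_cross F _ _ p _ _ _ h3 := H957.EPX.g2_cross known F p h3
  g2_crossk F _ _ p _ _ _ h3 := ck_g2 tg allK F p h3
  g2_own F _ _ p _ _ _ h3 := own_of' (KFacts.RgdFiltChev.hasFilt_G2 F p) (oq_g2 tg known F p h3)
    (small_g2 tg ot F p h3)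
  g2_aff F _ _ _ _ _ _ h3 := aff_g2 F h3
  g2_two _ _ _ _ _ _ _ _ := H290.Two.two _
  g2_spor F _ _ p _ _ _ h3 := H444.G2S.g2_spor tg F p h3

/-- **all cells** -/
theorem cells : Cells := cells_of ⟨H252.EN.chkK_e8, H252.EN.chkKA_e8, H252.EN.chkKTi_e8⟩

end Cfsg.Agent.H542.EPX
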