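import Cfsg.Agent.H542.EPX.Cells
import Cfsg.Agent.H470.EPO.OwnPan
import Cfsg.Agent.H218.OWN.Pack
import Cfsg.Agent.KFacts.RgdLieCharP

/-!
# S5745: the socles of own characteristic (helper542)

`T` simple of Lie type in characteristic `p`. Then

* `T` has a filtered root group datum of rank at least two, all simple root groups of order at least three; or
* `p = 2` and `OverTwo T` : `T` is a group over the field with two elements; or
* `RankOne p T` : `PSL₂`, `PSU₃`, `Sz`, `²G₂`; or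
* `p = 2` and `T ≅ ²F₄(q)`.

`own_reduce` : by `own_S_filtC` (helper470) the first case does not occur for a stabiliser `H` with socle `T ^ k`.
-/

set_option autoImplicit false

namespace Cfsg.Agent.H542.EPX

open Cfsg.Agent.H284 Cfsg.Agent.H209.EPX Cfsg.Agent.H284.Pan Cfsg.Agent.H218.OWN
open Cfsg.Agent.ChevalleyStructure.CoxeterGeomTypes Cfsg.Agent.Nodes.RGDChev Cfsg.Agent.KFacts.RgdFilt
open Cfsg.Agent.KFacts.RgdBorelTits

/-- the groups over the field with two elements which have a simple root group of order two -/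
def OverTwo (T : Type) [Group T] : Prop :=
  (∃ (F : Type) (_ : Field F) (_ : Fintype F) (n : ℕ), Fintype.card F = 2 ∧ 3 ≤ n ∧
    Nonempty (T ≃* Matrix.ProjectiveSpecialLinearGroup (Fin n) F)) ∨
  (∃ (F : Type) (_ : Field F) (_ : Fintype F) (m : ℕ), Fintype.card F = 2 ∧ 3 ≤ m ∧ Nonempty (T ≃* PSp m F)) ∨
  (∃ (F : Type) (_ : Field F) (_ : Fintype F) (m : ℕ), Fintype.card F = 4 ∧ 2 ≤ m ∧ Nonempty (T ≃* PSU (2 * m) F 2)) ∨
  (∃ (F : Type) (_ : Field F) (_ : Fintype F) (m : ℕ), Fintype.card F = 2 ∧ 4 ≤ m ∧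
    Nonempty (T ≃* POmega F (quadFormPlus m F))) ∨
  (∃ (F : Type) (_ : Field F) (_ : Fintype F) (m : ℕ) (a b : F), Fintype.card F = 2 ∧ 4 ≤ m ∧
    (∀ z₁ z₂ : F, z₁ ^ 2 + a * z₁ * z₂ + b * z₂ ^ 2 = 0 → z₁ = 0 ∧ z₂ = 0) ∧
    Nonempty (T ≃* POmega F (quadFormMinus (m - 1) F a b))) ∨
  (∃ (F : Type) (_ : Field F) (_ : Fintype F), Fintype.card F = 2 ∧
    (Nonempty (T ≃* Lie.chevF4.group F) ∨ Nonempty (T ≃* Lie.chevE6.group F) ∨ Nonempty (T ≃* Lie.chevE7.group F) ∨
      Nonempty (T ≃* Lie.chevE8.group F))) ∨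
  (∃ (K : Type) (_ : Field K) (_ : Fintype K), Fintype.card K = 4 ∧ Nonempty (T ≃* Lie.twistedE6 K 2)) ∨
  (∃ (K : Type) (_ : Field K) (_ : Fintype K), Fintype.card K = 8 ∧ Nonempty (T ≃* Lie.twistedD4 K 2))

/-- the groups of rank one -/
def RankOne (p : ℕ) (T : Type) [Group T] : Prop :=
  (∃ (F : Type) (_ : Field F) (_ : Fintype F) (_ : CharP F p), 4 ≤ Fintype.card F ∧
    Nonempty (T ≃* Matrix.ProjectiveSpecialLinearGroup (Fin 2) F)) ∨
  (∃ (F : Type) (_ : Field F) (_ : Fintype F) (_ : CharP F p) (q : ℕ), Fintype.card F = q ^ 2 ∧ 3 ≤ q ∧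
    Nonempty (T ≃* PSU 3 F q)) ∨
  (p = 2 ∧ Lie.IsoSuzuki T) ∨ (p = 3 ∧ Lie.IsoRee T)

/-- a filtered root group datum of rank at least two, all simple root groups of order at least three -/
def Big (p : ℕ) (T : Type) [Group T] : Prop :=
  ∃ (l : ℕ) (M : CoxeterMatrix (Fin l)), 2 ≤ l ∧ FiltC p 3 M T

theorem big_of {p l : ℕ} {M : CoxeterMatrix (Fin l)} {q : Fin l → ℕ} {T S : Type} [Group T] [Group S] [Finite T]
    (hl : 2 ≤ l) (h : HasFiltQ p M q S) (e : T ≃* S) (hq : ∀ i, 3 ≤ q i) : Big p T := by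
  have : Finite S := Finite.of_equiv T e.toEquiv
  refine ⟨l, M, hl, FiltC.of_equiv e.symm ?_⟩
  obtain ⟨A, h, T, n, X, R, F, h1, h2, h3, h4⟩ := h
  exact ⟨A, h, T, n, X, R, F, h1, h2, h3, fun i => (hq i).trans (h4 i)⟩

theorem two_of_card {F : Type} [Field F] [Fintype F] {p : ℕ} [CharP F p] [Fact p.Prime] {k : ℕ}
    (h : Fintype.card F = 2 ^ k) : p = 2 := by
  obtain ⟨⟨n, hn⟩, hp, hc⟩ := FiniteField.card F p
  simp only [PNat.mk_coe] at hc
  rw [hc] at h
  have h1 : p ∣ 2 ^ k := h ▸ dvd_pow_self p hn.ne'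
  exact (Nat.prime_dvd_prime_iff_eq hp Nat.prime_two).1 (hp.dvd_of_dvd_pow h1)

/-- **The four cases.** -/
theorem own_cases {T : Type} [Group T] [Finite T] {p : ℕ} [Fact p.Prime] (h : IsLieTypeChar p T) :
    Big p T ∨ (p = 2 ∧ OverTwo T) ∨ RankOne p T ∨ (p = 2 ∧ Lie.Iso2F4 T) := by
  classical
  have chr : ∀ {F : Type} [Field F] [Fintype F] [CharP F p] {k : ℕ}, k ≠ 0 → Fintype.card F = 2 ^ k → p = 2 :=
    fun _ h => two_of_card h
  have c2 : ∀ {F : Type} [Field F] [Fintype F], 2 ≤ Fintype.card F := fun {F} _ _ => Fintype.one_lt_card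
  rcases h with h | h | h | h | h | h | h | h | h | h | h
  · obtain ⟨F, i1, i2, i3, n, hn, hn2, ⟨e⟩⟩ := h
    rcases (by omega : n = 2 ∨ 3 ≤ n) with rfl | h3
    · exact Or.inr (Or.inr (Or.inl (Or.inl ⟨F, i1, i2, i3, hn2 rfl, ⟨e⟩⟩)))
    · by_cases hF : Fintype.card F = 2
      · exact Or.inr (Or.inl ⟨chr one_ne_zero (by rw [hF]; rfl), Or.inl ⟨F, i1, i2, n, hF, h3, ⟨e⟩⟩⟩)
      · obtain ⟨m, rfl⟩ : ∃ m, n = m + 1 := ⟨n - 1, by omega⟩
        refine Or.inl (big_of (by omega) (fq_PSL (F := F) m (p := p)) e fun i => ?_)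
        rw [Nat.card_eq_fintype_card]
        have := c2 (F := F)
        omega
  · obtain ⟨F, i1, i2, i3, m, hm, hm2, ⟨e⟩⟩ := h
    by_cases hF : Fintype.card F = 2
    · refine Or.inr (Or.inl ⟨chr one_ne_zero (by rw [hF]; rfl), Or.inr (Or.inl ⟨F, i1, i2, m, hF, ?_, ⟨e⟩⟩)⟩)
      by_contra hcon
      have := hm2 (by omega)
      omega
    · refine Or.inl (big_of hm (fq_PSp (F := F) (m := m) (by omega) (p := p)) e fun i => ?_)
      rw [Nat.card_eq_fintype_card]
      have := c2 (F := F)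
      omega
  · obtain ⟨F, i1, i2, i3, n, q, hF, hn, hnq, ⟨e⟩⟩ := h
    have hq2 : 2 ≤ q := by
      have := c2 (F := F)
      rw [hF] at this
      nlinarith
    rcases (by omega : n = 3 ∨ 4 ≤ n) with rfl | h4
    · exact Or.inr (Or.inr (Or.inl (Or.inr (Or.inl ⟨F, i1, i2, i3, q, hF, by
        by_contra hcon
        exact hnq ⟨rfl, by omega⟩, ⟨e⟩⟩))))
    · have hq4 : 4 ≤ q ^ 2 := by nlinarith
      rcases Nat.even_or_odd' n with ⟨m, rfl | rfl⟩
      · by_cases hq : q = 2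
        · subst hq
          exact Or.inr (Or.inl ⟨chr two_ne_zero hF, Or.inr (Or.inr (Or.inl ⟨F, i1, i2, m, hF, by omega, ⟨e⟩⟩))⟩)
        · refine Or.inl (big_of (by omega) (fq_PSU_even hF (m := m) (by omega) (p := p)) e fun i => ?_)
          split_ifs
          · omega
          · omega
      · refine Or.inl (big_of (by omega) (fq_PSU_odd hF (m := m) (by omega) (p := p)) e fun i => ?_)
        split_ifs
        · omega
        · calc 3 ≤ q ^ 2 := by omega
            _ ≤ q ^ 3 := Nat.pow_le_pow_right (by omega) (by omega)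
  · obtain ⟨F, i1, i2, i3, m, hm, hF, ⟨e⟩⟩ := h
    have h2 : (2 : F) ≠ 0 := by
      intro h0
      have h1 : CharP F 2 := CharTwo.of_one_ne_zero_of_two_eq_zero one_ne_zero h0
      have h3 : 2 ∣ Fintype.card F := by
        obtain ⟨⟨n, hn⟩, -, hc⟩ := FiniteField.card F 2
        rw [hc]
        exact dvd_pow_self 2 hn.ne'
      exact (Nat.not_even_iff_odd.2 hF) (even_iff_two_dvd.2 h3)
    refine Or.inl (big_of (by omega) (fq_PO_odd h2 (m := m) (by omega) (p := p)) e fun i => ?_)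
    rw [Nat.card_eq_fintype_card]
    have := c2 (F := F)
    obtain ⟨c, hc⟩ := hF
    omega
  · obtain ⟨F, i1, i2, i3, m, hm, ⟨e⟩⟩ := h
    by_cases hF : Fintype.card F = 2
    · exact Or.inr (Or.inl ⟨chr one_ne_zero (by rw [hF]; rfl),
        Or.inr (Or.inr (Or.inr (Or.inl ⟨F, i1, i2, m, hF, hm, ⟨e⟩⟩)))⟩)
    · obtain ⟨n, rfl⟩ : ∃ n, m = n + 3 := ⟨m - 3, by omega⟩
      refine Or.inl (big_of (by omega) (fq_PO_plus (F := F) n (p := p)) e fun i => ?_)
      rw [Nat.card_eq_fintype_card]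
      have := c2 (F := F)
      omega
  · obtain ⟨F, i1, i2, i3, m, a, b, hm, hab, ⟨e⟩⟩ := h
    by_cases hF : Fintype.card F = 2
    · exact Or.inr (Or.inl ⟨chr one_ne_zero (by rw [hF]; rfl),
        Or.inr (Or.inr (Or.inr (Or.inr (Or.inl ⟨F, i1, i2, m, a, b, hF, hm, hab, ⟨e⟩⟩))))⟩)
    · refine Or.inl (big_of (by omega) (fq_PO_minus a b hab (m := m - 1) (by omega) (p := p)) e fun i => ?_)
      rw [Nat.card_eq_fintype_card]
      have := c2 (F := F)
      split_ifs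
      · omega
      · nlinarith
  · obtain ⟨F, i1, i2, i3, h⟩ := h
    have := c2 (F := F)
    by_cases hF : Fintype.card F = 2
    · rcases h with ⟨h3, -⟩ | h | h | h | h
      · omega
      · exact Or.inr (Or.inl ⟨chr one_ne_zero (by rw [hF]; rfl),
          Or.inr (Or.inr (Or.inr (Or.inr (Or.inr (Or.inl ⟨F, i1, i2, hF, Or.inl h⟩)))))⟩)
      · exact Or.inr (Or.inl ⟨chr one_ne_zero (by rw [hF]; rfl),
          Or.inr (Or.inr (Or.inr (Or.inr (Or.inr (Or.inl ⟨F, i1, i2, hF, Or.inr (Or.inl h)⟩)))))⟩)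
      · exact Or.inr (Or.inl ⟨chr one_ne_zero (by rw [hF]; rfl),
          Or.inr (Or.inr (Or.inr (Or.inr (Or.inr (Or.inl ⟨F, i1, i2, hF, Or.inr (Or.inr (Or.inl h))⟩)))))⟩)
      · exact Or.inr (Or.inl ⟨chr one_ne_zero (by rw [hF]; rfl),
          Or.inr (Or.inr (Or.inr (Or.inr (Or.inr (Or.inl ⟨F, i1, i2, hF, Or.inr (Or.inr (Or.inr h))⟩)))))⟩)
    · have hq : ∀ i : ℕ, 3 ≤ Nat.card F := fun _ => by
        rw [Nat.card_eq_fintype_card]
        omega
      rcases h with ⟨-, ⟨e⟩⟩ | ⟨⟨e⟩⟩ | ⟨⟨e⟩⟩ | ⟨⟨e⟩⟩ | ⟨⟨e⟩⟩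
      · exact Or.inl (big_of (l := 2) (by omega)
          (fq_group (by simp [IsType, typeList] : IsType Lie.chevG2 2 CoxeterMatrix.G₂) F p) e fun _ => hq 0)
      · exact Or.inl (big_of (l := 4) (by omega)
          (fq_group (by simp [IsType, typeList] : IsType Lie.chevF4 4 CoxeterMatrix.F₄) F p) e fun _ => hq 0)
      · exact Or.inl (big_of (l := 6) (by omega)
          (fq_group (by simp [IsType, typeList] : IsType Lie.chevE6 6 CoxeterMatrix.E₆) F p) e fun _ => hq 0)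
      · exact Or.inl (big_of (l := 7) (by omega)
          (fq_group (by simp [IsType, typeList] : IsType Lie.chevE7 7 CoxeterMatrix.E₇) F p) e fun _ => hq 0)
      · exact Or.inl (big_of (l := 8) (by omega)
          (fq_group (by simp [IsType, typeList] : IsType Lie.chevE8 8 CoxeterMatrix.E₈) F p) e fun _ => hq 0)
  · obtain ⟨K, i1, i2, i3, q, hq, h⟩ := h
    have hq2 := hq.two_le
    rcases h with ⟨hK, ⟨e⟩⟩ | ⟨hK, ⟨e⟩⟩
    · by_cases h2 : q = 2
      · subst h2
        exact Or.inr (Or.inl ⟨chr two_ne_zero hK,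
          Or.inr (Or.inr (Or.inr (Or.inr (Or.inr (Or.inr (Or.inl ⟨K, i1, i2, hK, ⟨e⟩⟩))))))⟩)
      · refine Or.inl (big_of (l := 4) (by omega) (fq_twE6 hq hK p) e fun i => ?_)
        split_ifs
        · omega
        · nlinarith
    · by_cases h2 : q = 2
      · subst h2
        exact Or.inr (Or.inl ⟨chr three_ne_zero hK,
          Or.inr (Or.inr (Or.inr (Or.inr (Or.inr (Or.inr (Or.inr ⟨K, i1, i2, hK, ⟨e⟩⟩))))))⟩)
      · refine Or.inl (big_of (l := 2) (by omega) (fq_twD4 hq hK p) e fun i => ?_)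
        split_ifs
        · omega
        · calc 3 ≤ q := by omega
            _ ≤ q ^ 3 := Nat.le_self_pow (by omega) q
  · exact Or.inr (Or.inr (Or.inl (Or.inr (Or.inr (Or.inl h)))))
  · exact Or.inr (Or.inr (Or.inr h))
  · exact Or.inr (Or.inr (Or.inl (Or.inr (Or.inr (Or.inr h)))))

/-- **Own characteristic: what is left.** -/
theorem own_reduce {G : Type} [Group G] [Finite G] [IsSimpleGroup G] {p : ℕ} [Fact p.Prime] (hG : HasFilt p G)
    {H N : Subgroup G} {T : Type} [Group T] {k : ℕ} {e : N ≃* (Fin k → T)} (h : EPS H N e)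
    (hT : IsLieTypeChar p T) : (p = 2 ∧ OverTwo T) ∨ RankOne p T ∨ (p = 2 ∧ Lie.Iso2F4 T) := by
  classical
  have hfin : Finite T := by
    have : Nonempty (Fin k) := ⟨⟨0, h.pos⟩⟩
    have h1 : Finite (Fin k → T) := Finite.of_equiv N e.toEquiv
    exact Finite.of_surjective (fun f : Fin k → T => f ⟨0, h.pos⟩) fun t => ⟨fun _ => t, rfl⟩
  rcases own_cases hT with ⟨l, M, hl, hF⟩ | h1
  · exfalso
    have hnab : ∃ a b : G, a * b ≠ b * a := by
      obtain ⟨a, b, hab⟩ := h.nab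
      refine ⟨(e.symm (fun _ => a) : N), (e.symm (fun _ => b) : N), fun h3 => hab ?_⟩
      have h4 : e.symm (fun _ => a) * e.symm (fun _ => b) = e.symm (fun _ => b) * e.symm (fun _ => a) := Subtype.ext h3
      rw [← map_mul, ← map_mul] at h4
      exact congrFun (e.symm.injective h4) ⟨0, h.pos⟩
    exact Cfsg.Agent.H470.EPO.own_S_filtC hl h hG hnab (j := MonoidHom.id G) Function.injective_id
      (by rw [MonoidHom.range_eq_top.2 Function.surjective_id]; infer_instance)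
      (by rw [MonoidHom.range_eq_top.2 Function.surjective_id]; exact le_top) hF
  · exact h1

/-- no socle over the field with two elements -/
def OwnQ2 (G : Type) [Group G] : Prop :=
  ∀ (H N : Subgroup G) (T : Type) [Group T] (k : ℕ) (e : N ≃* (Fin k → T)), EPS H N e → OverTwo T → False

/-- no socle of rank one -/
def OwnR1 (p : ℕ) (G : Type) [Group G] : Prop :=
  ∀ (H N : Subgroup G) (T : Type) [Group T] (k : ℕ) (e : N ≃* (Fin k → T)), EPS H N e → RankOne p T → False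

/-- no socle `²F₄(q) ^ k` -/
def OwnTF4 (G : Type) [Group G] : Prop :=
  ∀ (H N : Subgroup G) (T : Type) [Group T] (k : ℕ) (e : N ≃* (Fin k → T)), EPS H N e → Lie.Iso2F4 T → False

/-- **`Own p G` from the three remaining cells** -/
theorem own_of {G : Type} [Group G] [Finite G] [IsSimpleGroup G] {p : ℕ} [Fact p.Prime] (hG : HasFilt p G)
    (h2 : p = 2 → OwnQ2 G) (h1 : OwnR1 p G) (h3 : p = 2 → OwnTF4 G) : Own p G := by
  intro H N T _ k e h hT
  rcases own_reduce hG h hT with ⟨hp, h4⟩ | h4 | ⟨hp, h4⟩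
  · exact h2 hp H N T k e h h4
  · exact h1 H N T k e h h4
  · exact h3 hp H N T k e h h4

end Cfsg.Agent.H542.EPX
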